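import Cfsg.Agent.H0.TC
set_option maxRecDepth 100000
namespace H0.TCU340
open H0
noncomputable def r0 : TC.WTr := (.node (.node (.node (.node (.node (.node (.leaf [0] 0 0 false) (.leaf [6] 5 0 false)) (.node (.leaf [1] 1 1 false) (.leaf [7] 7 1 false))) (.node (.node (.leaf [5, 1, 5, 1, 5] 35 1 true) (.leaf [6, 7, 4, 5, 7, 7, 7] 19 7 false)) (.leaf [8, 4, 7, 3, 1, 0, 5, 4, 0] 40 5 false))) (.node (.node (.node (.leaf [0] 0 0 false) (.leaf [3, 5, 0, 1, 7, 2] 29 4 false)) (.leaf [5, 4, 8, 8, 6, 7, 7] 21 0 false)) (.node (.node (.leaf [0, 2, 3, 0, 1, 5] 37 4 true) (.leaf [7] 7 1 false)) (.leaf [8, 0, 5, 5, 3, 6, 2, 5] 39 6 true)))) (.node (.node (.node (.node (.leaf [1, 7, 2, 6, 3, 5] 29 0 false) (.leaf [2, 0, 4, 1, 0, 1] 37 3 false)) (.leaf [7, 7, 7, 7, 3, 6, 7, 5] 22 8 true)) (.node (.node (.leaf [2] 1 0 false) (.leaf [5, 3, 7, 7, 7, 7, 3, 6] 22 6 true))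 (.leaf [3] 3 1 false))) (.node (.node (.node (.leaf [7, 0, 8, 4, 6, 6, 0, 2, 4] 44 3 false) (.leaf [5] 5 1 false)) (.leaf [3] 3 1 false)) (.node (.node (.leaf [3, 7, 3, 7, 3, 2, 8, 0] 33 8 true) (.leaf [1, 3, 5, 7, 4, 0, 2, 3, 5] 42 8 true)) (.leaf [1, 5, 1, 5, 1] 35 0 true))))) (.node (.node (.node (.node (.node (.leaf [1, 5, 2, 0, 2, 3] 37 1 true) (.leaf [5] 5 1 false)) (.node (.leaf [1, 8, 5, 7, 5, 0, 1] 31 6 true) (.leaf [7] 7 1 false))) (.node (.node (.leaf [2] 1 0 false) (.leaf [0, 8, 2, 3, 1, 0, 5, 5, 3] 44 3 true)) (.leaf [8, 8, 8, 3, 8, 3, 8] 16 7 true))) (.node (.node (.node (.leaf [0] 0 0 false) (.leaf [5] 5 1 false)) (.leaf [4] 3 0 false)) (.node (.node (.leaf [0, 4, 1, 0, 1, 6] 37 4 false) (.leaf [8, 6, 7, 7, 3, 5, 4] 21 3 false)) (.leaf [0, 8, 4, 7, 3, 1, 5, 0] 38 3 false)))) (.node (.node (.node (.node (.leaf [3, 5, 2, 6, 0, 3, 5, 4,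 8] 45 0 false) (.leaf [0, 3, 5, 4, 6, 2, 8, 3, 8] 43 9 false)) (.leaf [5, 0, 1, 7, 2, 6] 29 5 false)) (.node (.node (.leaf [1] 1 1 false) (.leaf [0, 6, 0, 6, 2, 4, 8, 3] 38 3 true)) (.leaf [3] 3 1 false))) (.node (.node (.node (.leaf [0, 1, 6, 2, 0, 4] 37 0 false) (.leaf [1, 4, 8, 4, 8, 4, 1, 0] 33 2 false)) (.leaf [5, 5, 3, 8, 4, 6] 12 2 false)) (.node (.node (.leaf [1] 1 1 false) (.leaf [4, 6, 4, 5, 5, 3] 12 6 false)) (.leaf [4, 7, 6, 8, 8, 5] 18 3 true))))))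
noncomputable def r1 : TC.WTr := (.node (.node (.node (.node (.node (.node (.leaf [7, 6, 6, 1, 5, 4, 6, 6] 39 0 false) (.leaf [6] 5 0 false)) (.node (.leaf [4] 3 0 false) (.leaf [7] 7 1 false))) (.node (.node (.leaf [3, 5, 7, 4, 0, 2, 3, 5, 8] 42 9 true) (.leaf [4, 6, 6, 3, 5, 3] 12 0 true)) (.leaf [5, 7, 7, 7, 5, 8, 5] 20 3 false))) (.node (.node (.node (.leaf [0] 0 0 false) (.leaf [5] 5 1 false)) (.leaf [7, 1, 5, 0, 7, 3, 6, 0] 41 4 true)) (.node (.node (.leaf [6, 0, 3, 5, 4, 8, 0, 3, 5] 45 3 false) (.leaf [3, 7, 3, 0, 3, 6, 0, 2, 4] 40 1 true)) (.leaf [8, 1, 3, 5, 7, 4, 0, 2, 3] 42 7 true)))) (.node (.node (.node (.node (.leaf [4, 8, 4, 8, 4, 2, 3, 8] 32 3 false) (.leaf [4, 8, 8, 5, 7, 7, 3] 21 6 true)) (.leaf [5, 3, 7, 4, 6, 6] 12 4 true)) (.node (.node (.leaf [2] 1 0 false) (.leaf [7, 7, 7, 6, 7, 4, 5] 19 4 false)) (.leaf [3] 3 1 false))) (.node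 (.node (.node (.leaf [1, 1] 23 0 false) (.leaf [8] 7 0 false)) (.leaf [4, 4] 10 0 true)) (.node (.node (.leaf [3, 0, 1, 5, 2, 0] 37 6 true) (.leaf [5, 4, 5, 7, 7, 7, 5] 20 1 false)) (.leaf [1, 8, 2, 0, 6, 4] 29 2 true))))) (.node (.node (.node (.node (.node (.leaf [1, 6, 2, 0, 4, 1] 37 1 false) (.leaf [0, 3, 5, 4, 8, 0, 3, 5, 2] 45 4 false)) (.leaf [7, 3, 0, 7, 4, 1, 3, 7] 32 2 true)) (.node (.node (.leaf [2] 1 0 false) (.leaf [7, 7, 3, 7, 4, 7, 4] 16 5 false)) (.leaf [2, 0, 6, 8, 6, 7, 2] 31 1 false))) (.node (.node (.node (.leaf [2] 1 0 false) (.leaf [5] 5 1 false)) (.leaf [4] 3 0 false)) (.node (.node (.leaf [3, 5, 8, 1, 3, 5, 7, 4, 0] 42 5 true) (.leaf [5, 8, 8, 8, 8, 6, 3] 19 6 true)) (.leaf [0, 6, 4, 7, 3, 5, 1, 7] 34 2 false)))) (.node (.node (.node (.node (.leaf [8, 4, 6, 6, 0, 2, 4, 1, 7] 44 5 false) (.leaf [7, 6, 8, 8, 8, 6, 3] 20 5 true))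 (.leaf [8, 4, 6, 4, 5, 5] 12 5 false)) (.node (.node (.leaf [5, 2, 5, 2, 5] 36 0 false) (.leaf [4, 5, 7, 7, 7, 7, 6] 19 1 false)) (.leaf [6] 5 0 false))) (.node (.node (.node (.leaf [7, 5, 0, 6, 4, 7, 3, 5] 34 0 false) (.leaf [5, 0, 4, 2, 4, 8, 5] 30 3 true)) (.leaf [6, 6, 3, 5, 3, 7] 12 1 true)) (.node (.node (.leaf [1] 1 1 false) (.leaf [8, 5, 5, 4, 7, 6] 18 0 true)) (.leaf [5, 4, 7, 6, 8, 8] 18 2 true))))))
noncomputable def r2 : TC.WTr := (.node (.node (.node (.node (.node (.node (.leaf [5, 0, 8, 4, 7, 3, 1, 5] 38 2 false) (.leaf [6] 5 0 false)) (.node (.leaf [1] 1 1 false) (.leaf [7] 7 1 false))) (.node (.node (.leaf [8, 5, 7, 5, 0, 1, 3] 31 7 true) (.leaf [7, 7, 7, 7, 4, 7, 3, 6] 17 4 false)) (.leaf [8, 4, 8, 4, 1, 0, 7, 1] 33 4 false))) (.node (.node (.node (.leaf [0] 0 0 false) (.leaf [5] 5 1 false)) (.leaf [1, 3, 0, 6, 8, 6, 7] 30 7 false))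 (.node (.node (.leaf [8, 0, 2, 3, 7, 3, 7, 3] 33 5 true) (.leaf [2, 6, 4, 8, 3, 5, 0, 6] 34 7 true)) (.leaf [2, 5, 2, 5, 2] 36 1 false)))) (.node (.node (.node (.node (.leaf [4, 1, 0, 1, 6, 2] 37 5 false) (.leaf [6, 7, 7, 5, 8, 3] 18 3 false)) (.leaf [7, 4, 7, 4, 7, 7, 7] 16 0 false)) (.node (.node (.leaf [2] 1 0 false) (.leaf [3, 7, 3, 0, 7, 4, 1, 3] 32 1 true)) (.leaf [3] 3 1 false))) (.node (.node (.node (.leaf [6, 1, 6, 1, 6] 36 1 true) (.leaf [5] 5 1 false)) (.leaf [1, 3, 7, 3, 7, 3, 0, 7] 32 7 true)) (.node (.node (.leaf [0, 6, 4, 5, 1, 8] 29 5 true) (.leaf [5, 5, 4, 7, 6, 8] 18 1 true)) (.leaf [3, 7, 4, 6, 6, 3] 12 5 true))))) (.node (.node (.node (.node (.node (.leaf [7, 4, 1, 3, 7, 3, 7, 3] 32 5 true) (.leaf [2, 6, 2, 6, 2] 35 1 false)) (.node (.leaf [3, 3] 10 0 false) (.leaf [7] 7 1 false))) (.node (.node (.leaf [2] 1 0 false) (.leaf [4,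 7, 4, 7, 7, 7, 3] 16 1 false)) (.leaf [0, 4, 8, 4, 7, 3, 1, 0, 5] 40 3 false))) (.node (.node (.node (.leaf [0] 0 0 false) (.leaf [5] 5 1 false)) (.leaf [4] 3 0 false)) (.node (.node (.leaf [6, 3, 5, 0, 1, 7] 29 3 false) (.leaf [6, 3, 6, 7, 6, 8, 8] 20 2 true)) (.leaf [5, 5, 5, 5] 11 0 false)))) (.node (.node (.node (.node (.leaf [3, 6, 0, 2, 4, 8, 3, 7, 3] 40 5 true) (.leaf [8, 8, 5, 5, 4, 7] 18 6 true)) (.leaf [8, 4, 8, 8, 8, 3, 8] 16 5 true)) (.node (.node (.leaf [2, 2] 23 0 true) (.leaf [4, 1, 3, 7, 3, 7, 3, 0] 32 6 true)) (.leaf [3] 3 1 false))) (.node (.node (.node (.leaf [7, 2, 6, 3, 5, 0] 29 1 false) (.leaf [3, 1, 3, 0, 6, 8, 6] 30 6 false)) (.leaf [6, 6, 0, 7, 6, 6, 1, 5] 39 6 false)) (.node (.node (.leaf [1] 1 1 false) (.leaf [5, 7, 5, 0, 1, 3, 1] 31 0 true)) (.leaf [8, 8, 8, 8, 6, 3, 8] 19 7 true))))))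
noncomputable def r3 : TC.WTr := (.node (.node (.node (.node (.node (.node (.leaf [5, 7, 4, 7, 1, 5, 3, 6, 4] 43 9 true) (.leaf [6] 5 0 false)) (.node (.leaf [0, 6, 8, 6, 7, 3, 1] 30 1 false) (.leaf [7] 7 1 false))) (.node (.node (.leaf [0, 2, 0, 1, 0, 1, 0, 2, 0, 1, 0, 2, 3] 24 1 true) (.leaf [6, 8, 8, 5, 5, 4] 18 5 true)) (.leaf [8, 3, 5, 0, 6, 8, 2, 6] 34 1 true))) (.node (.node (.node (.leaf [0] 0 0 false) (.leaf [5] 5 1 false)) (.leaf [4] 3 0 false)) (.node (.node (.leaf [4, 8, 5, 7, 5, 0, 4] 30 7 true) (.leaf [8, 8, 6, 3, 6, 7, 6] 20 0 true)) (.leaf [0, 1, 7, 2, 6, 3] 29 6 false)))) (.node (.node (.node (.node (.leaf [6, 0, 6, 2, 4, 8, 3, 7] 38 4 true) (.leaf [7, 7, 3, 5, 4, 8, 8] 21 5 false)) (.leaf [7, 4, 6, 6, 3, 5] 12 6 true)) (.node (.node (.leaf [2] 1 0 false) (.leaf [3, 7, 4, 7, 4, 7, 7] 16 7 false)) (.leaf [3] 3 1 false))) (.node (.node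 (.node (.leaf [5, 0, 7, 3, 6, 0, 3, 7] 41 6 true) (.leaf [2, 6, 3, 5, 0, 1] 29 2 false)) (.leaf [6, 2, 8, 3, 8, 6, 0, 3, 5] 43 3 false)) (.node (.node (.leaf [1] 1 1 false) (.leaf [3, 6, 6, 7, 7, 5] 18 1 false)) (.leaf [1, 6, 4, 0, 7, 3, 6, 4, 0] 45 5 true))))) (.node (.node (.node (.node (.node (.leaf [6, 4, 5, 1, 8, 2] 29 6 true) (.leaf [6, 6, 6, 6] 11 0 true)) (.leaf [0, 1, 5, 2, 0, 2] 37 0 true)) (.node (.node (.leaf [2] 1 0 false) (.leaf [6, 8, 8, 8, 6, 3, 6] 20 6 true)) (.leaf [1, 0, 1, 6, 2, 0] 37 6 false))) (.node (.node (.node (.leaf [6, 2, 0, 4, 1, 0] 37 2 false) (.leaf [5] 5 1 false)) (.leaf [4] 3 0 false)) (.node (.node (.leaf [4, 2, 0, 6, 8, 6, 7] 31 0 false) (.leaf [3, 8, 4, 8, 8, 8, 3] 16 4 true)) (.leaf [8, 3, 6, 6, 7, 7] 18 0 false)))) (.node (.node (.node (.node (.leaf [6, 2, 4, 8, 3, 7, 0, 6] 38 6 true) (.leaf [4, 5, 1, 8, 2, 0]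 29 0 true)) (.leaf [6, 6, 7, 7, 5, 8] 18 2 false)) (.node (.node (.leaf [6, 2, 6, 2, 6] 35 0 false) (.leaf [7, 5, 8, 3, 6, 6] 18 5 false)) (.leaf [4, 0, 4, 8, 4, 7, 3, 1, 0] 40 2 false))) (.node (.node (.node (.leaf [4, 8, 4, 8, 4, 1, 0, 7] 33 3 false) (.leaf [5, 8, 3, 6, 6, 7] 18 6 false)) (.leaf [6, 4, 5, 5, 3, 8] 12 0 false)) (.node (.node (.leaf [1] 1 1 false) (.leaf [2, 0, 6, 4, 5, 1] 29 4 true)) (.leaf [6] 5 0 false))))))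
noncomputable def tS : Tr := (.leaf (nat_lit 0xfff7ce81977533554885f0db7cf857fff71785e6cf0da8a170f77860f806fff8a06951b30d767768a71642f60afff84b63f7d87d43767037c067a0d6fff6d875b3038036297d43670935f8fff4f60926bf7845793a616475a7cdfff8606f668b81c78f4247d0712092fff09132863c57654353f5ac687692fff2801b45b73480912a96577b9781fff2f22c22ff4b80902187566098a1fff17108f81c67481b6ec74b78d76efff5b11a567b71a08f1f37505fd587fff08e3ec15634375b5956c07106b4fff5fd6c508e53f73729f66e234656fff68308d3686d462c7565cd819549fff6c808c5f563d6d86f981f775672fff66981f3a808c66b4ef7524c1427fff5e93a208c23653f58e50371181afff1ff70c2783a813108c6d356b681fff3251f315820508c1735415824effff2351bc08b11423d19327c5ec4f3fff68c89e5884e058e58412e08b469fff5776cc6016421a067208b17049cfff63741f38d3a74383cb5ff2df08bfff6816402eb08a7593f85285bf646fff6963437d916312a08a31f10f85ffff56a64b50a52a08a16c64d70f46eff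f5ef1a668a7164f631708a163361fff53008985c6924695d17c2781754fff08954f4f64b549d4b74a141d4a8fff14d53e4636cf12508957681c39dfff52b21d5cf60f0891676d7536654fff1ec39a291334329318162089540fff1fc6003281d230325848f1c1089fff0883651ad64974d6d81ab10c3dcfff4443e10882a611036d10b1a64b8fff3865792662ea5444630881e0541fff75660c6d03c04e87908177dd088fff08724f37b3ff3251f131d3ca70ffff25f37a3f80876422e522418c6cbfff3ac5bb0877de40a4b674d1444bdfff14e4f414335f11a08746310e3fffff1972a357b11508715c5c4610474fff26a5bc56a5292fe52f6446cd087fff3fe29d14208648b68b33557d331fff2df2160861b32de29d10f374141fff42d6473a543242c6ca49c427086fff04415b15b1ba7526950ff3677d4fff0fe6ca1710442801d50cf1d50fdfff3f80fc0440cc2270fb0d04743f1fff25c18b2161d52180fa196110044fff0f910853f0431f30f84741133acfff3ef0f70430f62eb1621531140cbfff0f50c62270c93724f616c158043fff0f40420f30f20f10f015c4634fdfff04219d1130ef0c61080ee0ed0ecfff0c51a80eb0420ea0e91630e8110fff0e70e60422eb0e50e40e31620e2fff2a40e110f0e00420c51e00df0defff1d50dd0dc0db0da0d90c70420d8fff1520c50d70d614e0c60421090d5fff10f09309209110810d084000090fff10810c08f08e10a0830000c608dfff08c08b08a0890c5088087086000fff000000000000000000044043042))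
noncomputable def tJ : Tr := (.leaf (nat_lit 0x80f091490f486281d51e80818de500283e11031bc00689667c1c7e84000306e287e73813c3c18d681400026b0020c0f100e9529339297100c4281d181a0200e0296e30000702780801a002880648a0e0c0b0201d8a40002d8b30140e9dac12807026e8031ea030e04f8ef02c005140100fcb5306030110f394002c030000000bc0300803bca0f01202180007ce0481080816000c000fce2000040241f018000000d00007f940068f8042089180000305c39804018005f000014400040000b8401c05e80070012d403a0028c2014030116000ba000c8002800e80060040040802007a00000e01800003a806cc000000280c002760180c000800004e006c80000000010000368060c600005000a01801829c030180066000028001804b01458008e40000026000010000000900000c1400383200000230004c80062000000000418002e500c140000000014000030028c00300c0c08801100000040180010e0a000c1900000118000640500001000020040000327002e00000020100b80000900001401002e00000030000b8000000040000005c60000200000000037008000800015c0008000000000dc020000000037000000000000000b8016b5ad6b0000))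
noncomputable def tQ : Tr := (.leaf (nat_lit 0x0))
noncomputable def tR : TC.WTr := (.node (.node r0 r1) (.node r2 r3))
def hl : List ℕ := [3, 4, 4, 3, 5, 6, 6, 5, 7, 8, 8, 7]
def B : List (List ℕ) := [[0, 0], [1, 2], [2, 1], [3, 4], [4, 3], [5, 6], [6, 5], [7, 8], [8, 7], [7, 7, 7, 7, 7, 7, 7, 7, 7, 7, 7, 7, 7, 7, 7], [3, 3, 3], [5, 5, 5, 5, 5], [4, 6, 4, 5, 5, 3, 8], [3, 5, 3, 5, 3, 5, 3, 5, 3, 5, 3, 5, 3, 5, 3, 5, 3, 5, 3, 5, 3, 5, 3, 5, 3, 5, 3, 5, 3, 5], [3, 5, 4, 6, 3, 5, 4, 6, 3, 5, 4, 6, 3, 5, 4, 6], [3, 6, 3, 6, 3, 6, 3, 6, 3, 6, 3, 6, 3, 6, 3, 6, 3, 6, 3, 6, 3, 6, 3, 6, 3, 6, 3, 6, 3, 6], [3, 7, 4, 7, 4, 7, 7, 7], [4, 7, 3, 6, 7, 7, 7, 7, 7], [5, 8, 3, 6, 6, 7, 7], [6, 7, 4, 5, 7, 7, 7, 7], [5, 8, 5, 4, 5, 7, 7, 7], [3, 5, 4, 8, 8, 6, 7, 7], [4, 6, 8, 5, 4, 8, 8, 8, 8], [1, 1, 1], [1, 0, 2, 0, 1, 0, 2, 0, 2, 0, 1, 0, 2, 4], [2, 0, 1, 0, 2,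 0, 1, 0, 1, 0, 2, 0, 2, 6], [0, 1, 0, 1, 0, 1, 0, 1, 0, 1, 0, 1, 0, 1, 0, 1, 0, 1, 0, 1, 0, 1, 0, 1, 0, 1], [0, 1, 0, 2, 0, 1, 0, 2, 0, 1, 0, 2, 0, 1, 0, 2, 0, 1, 0, 2], [0, 2, 0, 2, 0, 2, 0, 2, 0, 2, 0, 2, 0, 2, 0, 2, 0, 2, 0, 2, 0, 2, 0, 2, 0, 2], [0, 1, 7, 2, 6, 3, 5], [1, 3, 0, 6, 8, 6, 7, 3], [2, 4, 2, 0, 6, 8, 6, 7], [2, 3, 8, 0, 4, 8, 4, 8, 4], [1, 0, 7, 1, 4, 8, 4, 8, 4], [1, 7, 5, 0, 6, 4, 7, 3, 5], [2, 6, 2, 6, 2, 6], [2, 5, 2, 5, 2, 5], [1, 0, 1, 6, 2, 0, 4], [1, 5, 0, 5, 0, 8, 4, 7, 3], [0, 7, 6, 6, 1, 5, 4, 6, 6], [1, 0, 5, 4, 0, 4, 8, 4, 7, 3], [0, 6, 2, 8, 4, 0, 5, 4, 8], [2, 7, 6, 4, 1, 0, 3, 8, 6, 4], [0, 3, 5, 4, 6, 2, 8, 3, 8, 6], [0, 2, 4, 1, 7, 0, 8, 4, 6, 6], [0, 3, 5, 2, 6, 0, 3, 5, 4, 8]]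
def subs : List (List ℕ) := [[3], [4], [5], [6], [7], [8]]
def ex : List (List ℕ) := []
def inv (x : ℕ) : ℕ := [0, 2, 1, 4, 3, 6, 5, 8, 7].getD x 0
noncomputable def rS : ℕ → ℕ := rowOf tS (nat_lit 7) (nat_lit 127) (nat_lit 120) (nat_lit 1329227995784915872903807060280344575)
noncomputable def rJ : ℕ → ℕ := rowOf tJ (nat_lit 7) (nat_lit 127) (nat_lit 55) (nat_lit 36028797018963967)
noncomputable def C : TC.Cfg where
  S := look rS (nat_lit 12) (nat_lit 4095)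
  J := look rJ (nat_lit 5) (nat_lit 31)
  Q := lookQ tQ (nat_lit 7) (nat_lit 1) (nat_lit 1)
  R := tR.get
  hl := fun x => hl.contains x
  n := (nat_lit 65)
  M := (nat_lit 65)
  top := (nat_lit 2210)
  nl := (nat_lit 9)
  need := (nat_lit 9)
  nr := (nat_lit 22)
theorem k0 : TC.chkRange C 0 2 = true := by decide +kernel
theorem rows0 : ∀ c < (0 + 2) * 64, c < C.M → TC.chkRow C c = true :=
  TC.rows_step (TC.rows_zero C) k0
theorem main {G : Type*} [Group G] (g : ℕ → G) (hB : ∀ r ∈ B, ev g r = 1) (H : Subgroup G)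
    (hH : ∀ w ∈ subs, ev g w ∈ H) :
    H.relIndex (Subgroup.closure (g '' {x | x < 9})) ≠ 0 ∧
      H.relIndex (Subgroup.closure (g '' {x | x < 9})) ≤ 65 :=
  TC.index_le C B subs ex inv hl tR.hint rfl (by decide +kernel) (by decide +kernel)
    (TC.rows_done rows0 (by decide +kernel)) g hB H hH
end H0.TCU340
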